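/-
Inverse systems of uniformly bounded objects of a derived category: pro-zero and pro-isomorphism
are detected on cohomology.
-/
import Mathlib
import Groth.Prelude.Def_DerCA
import Groth.Agent.TriDecomp.ProSystems
import Groth.Agent.CohDerLim.TruncFactor
import Groth.Agent.SiteCmpLib.Devissage

set_option autoImplicit false
set_option linter.style.haveILetI false

universe w v u

open CategoryTheory CategoryTheory.Limits CategoryTheory.Pretriangulated Opposite DerivedCategory

noncomputable section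

namespace Groth.Agent.ProDerLib

variable {A : Type u} [Category.{v} A] [Abelian A] [HasDerivedCategory.{w} A]

omit [Abelian A] [HasDerivedCategory.{w} A] in
theorem tr_tr (X : ARSys.PS A) {a b c : ℕ} (h₁ : a ≤ b) (h₂ : b ≤ c) :
    ARSys.tr X h₂ ≫ ARSys.tr X h₁ = ARSys.tr X (h₁.trans h₂) := by
  rw [ARSys.tr, ARSys.tr, ← X.map_comp, ← op_comp, homOfLE_comp]

theorem isZero_of_homology (X : DerivedCategory A)
    (h : ∀ i : ℤ, IsZero ((homologyFunctor A i).obj X)) : IsZero X := by
  haveI : X.IsLE 0 := (isLE_iff X 0).2 fun i _ => h i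
  haveI : X.IsGE 1 := (isGE_iff X 1).2 fun i _ => h i
  exact (TStructure.t (C := A)).isZero X 0 1

/-- Uniformly bounded inverse systems which are pro-zero on cohomology are pro-zero. -/
theorem isProZero_of_homology : ∀ (l : ℕ) (a : ℤ) (C : ARSys.PS (DerivedCategory A)),
    (∀ (n : ℕ) (i : ℤ), i < a ∨ a + l ≤ i → IsZero ((homologyFunctor A i).obj (C.obj (op n)))) →
    (∀ i : ℤ, DerCA.IsProZero (C ⋙ homologyFunctor A i)) → DerCA.IsProZero C
  | 0, a, C, hb, _, n => ⟨n, le_rfl, (isZero_of_homology _ fun i => hb n i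
      ((lt_or_ge i a).imp id fun h => by simpa using h)).eq_of_src _ _⟩
  | l + 1, a, C, hb, hH, n => by
    let t := TStructure.t (C := A)
    let b : ℤ := a + l
    let C' : ARSys.PS (DerivedCategory A) := C ⋙ t.truncLT b
    have hb' : ∀ (n : ℕ) (i : ℤ), i < a ∨ a + l ≤ i →
        IsZero ((homologyFunctor A i).obj (C'.obj (op n))) := fun n i hi => by
      rcases hi with hi | hi
      · haveI : (C.obj (op n)).IsGE a := (isGE_iff _ a).2 fun j hj => hb n j (Or.inl hj)
        haveI := SiteCmpLib.isGE_truncLT (C.obj (op n)) a b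
        exact isZero_of_isGE ((t.truncLT b).obj (C.obj (op n))) a i hi
      · exact isZero_of_isLE ((t.truncLT b).obj (C.obj (op n))) (b - 1) i (by omega)
    have hH' : ∀ i : ℤ, DerCA.IsProZero (C' ⋙ homologyFunctor A i) := fun i n => by
      rcases lt_or_ge i b with hi | hi
      · obtain ⟨m, hm, hz⟩ := hH i n
        refine ⟨m, hm, ?_⟩
        haveI := DCohLib.isIso_homology_truncLTι (C.obj (op n)) b i hi
        rw [← cancel_mono ((homologyFunctor A i).map ((t.truncLTι b).app (C.obj (op n)))), zero_comp]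
        show (homologyFunctor A i).map ((t.truncLT b).map (ARSys.tr C hm)) ≫ _ = 0
        rw [← Functor.map_comp]
        have := (t.truncLTι b).naturality (ARSys.tr C hm)
        rw [this, Functor.map_comp]
        exact (congrArg (_ ≫ ·) hz).trans comp_zero
      · exact ⟨n, le_rfl, (hb' n i (Or.inr hi)).eq_of_src _ _⟩
    obtain ⟨m₀, h₀, e₀⟩ := isProZero_of_homology l a C' hb' hH' n
    obtain ⟨m₁, h₁, e₁⟩ := hH b m₀
    haveI : (C.obj (op m₁)).IsLE b := (isLE_iff _ b).2 fun j hj => hb m₁ j (Or.inr (by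
      push_cast; omega))
    have hπ : ARSys.tr C h₁ ≫ (t.truncGEπ b).app (C.obj (op m₀)) = 0 :=
      CohDerLim.eq_zero_of_homology b _ (by
        rw [Functor.map_comp]
        exact (congrArg (· ≫ _) e₁).trans zero_comp)
    obtain ⟨φ, hφ⟩ : ∃ φ : C.obj (op m₁) ⟶ (t.truncLT b).obj (C.obj (op m₀)),
        ARSys.tr C h₁ = φ ≫ (t.truncLTι b).app (C.obj (op m₀)) :=
      Triangle.coyoneda_exact₂ _ (t.triangleLTGE_distinguished b (C.obj (op m₀))) _ hπ
    refine ⟨m₁, h₀.trans h₁, ?_⟩
    have hn : (t.truncLTι b).app (C.obj (op m₀)) ≫ ARSys.tr C h₀ =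
        (t.truncLT b).map (ARSys.tr C h₀) ≫ (t.truncLTι b).app (C.obj (op n)) :=
      ((t.truncLTι b).naturality (ARSys.tr C h₀)).symm
    rw [← TriDecomp.tr_tr' C h₀ h₁, hφ, Category.assoc, hn]
    exact (congrArg (fun z => φ ≫ z ≫ _) e₀).trans (by simp)

/-- Completing a levelwise map of inverse systems to an inverse system of triangles. -/
theorem exists_cone_system {D : Type u} [Category.{v} D] [Preadditive D] [HasZeroObject D]
    [HasShift D ℤ] [∀ n : ℤ, (shiftFunctor D n).Additive] [Pretriangulated D]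
    (X Y : ARSys.PS D) (f : X ⟶ Y) :
    ∃ (Z : ARSys.PS D) (g : Y ⟶ Z) (h : Z ⟶ X ⋙ shiftFunctor D (1 : ℤ)),
      ∀ n : ℕ, Triangle.mk (f.app (op n)) (g.app (op n)) (h.app (op n)) ∈ distTriang D := by
  choose Z g h hT using fun n : ℕ => distinguished_cocone_triangle (f.app (op n))
  choose c hc₁ hc₂ using fun n : ℕ => complete_distinguished_triangle_morphism _ _ (hT (n + 1)) (hT n)
    (X.map (homOfLE (n.le_add_right 1)).op) (Y.map (homOfLE (n.le_add_right 1)).op)
    (f.naturality (homOfLE (n.le_add_right 1)).op).symm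
  let ZS : ARSys.PS D := Functor.ofOpSequence c
  refine ⟨ZS, NatTrans.ofOpSequence g fun n => ?_, NatTrans.ofOpSequence h fun n => ?_, hT⟩
  · show Y.map _ ≫ g n = g (n + 1) ≫ ZS.map _
    rw [show ZS.map (homOfLE (n.le_add_right 1)).op = c n from Functor.ofOpSequence_map_homOfLE_succ c n]
    exact (hc₁ n).symm
  · show ZS.map _ ≫ h n = h (n + 1) ≫ _
    rw [show ZS.map (homOfLE (n.le_add_right 1)).op = c n from Functor.ofOpSequence_map_homOfLE_succ c n]
    exact (hc₂ n).symm

/-- Uniformly bounded inverse systems: pro-isomorphism is detected on cohomology. -/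
theorem isProIso_of_homology (X Y : ARSys.PS (DerivedCategory A)) (f : X ⟶ Y) (a b : ℤ)
    (hab : a ≤ b)
    (hX : ∀ (n : ℕ) (i : ℤ), i < a ∨ b < i → IsZero ((homologyFunctor A i).obj (X.obj (op n))))
    (hY : ∀ (n : ℕ) (i : ℤ), i < a ∨ b < i → IsZero ((homologyFunctor A i).obj (Y.obj (op n))))
    (hH : ∀ i : ℤ, DerCA.IsProIso (Functor.whiskerRight f (homologyFunctor A i))) :
    DerCA.IsProIso f := by
  obtain ⟨Z, g, h, hT⟩ := exists_cone_system X Y f
  refine TriDecomp.isProIso_of_isProZero X Y Z f g h hT ?_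
  obtain ⟨l, hl⟩ := Int.eq_ofNat_of_zero_le (a := b - a + 2) (by omega)
  refine isProZero_of_homology l (a - 1) Z ?_ ?_
  · intro n i hi
    exact (HomologySequence.exact₃ _ (hT n) i (i + 1) rfl).isZero_of_both_zeros
      ((hY n i (by omega)).eq_of_src _ _) ((hX n (i + 1) (by omega)).eq_of_tgt _ _)
  · intro i n
    let T : ℕ → Triangle (DerivedCategory A) := fun n =>
      Triangle.mk (f.app (op n)) (g.app (op n)) (h.app (op n))
    obtain ⟨m₁, h₁, b₁, hb₁, hb₁'⟩ := hH i n
    obtain ⟨m₂, h₂, b₂, hb₂, hb₂'⟩ := hH (i + 1) m₁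
    refine ⟨m₂, h₁.trans h₂, ?_⟩
    let φ : T m₂ ⟶ T m₁ := Triangle.homMk _ _ (ARSys.tr X h₂) (ARSys.tr Y h₂) (ARSys.tr Z h₂)
      (f.naturality (homOfLE h₂).op).symm (g.naturality (homOfLE h₂).op).symm
      (h.naturality (homOfLE h₂).op).symm
    have hδ : (homologyFunctor A i).map (ARSys.tr Z h₂) ≫ HomologySequence.δ (T m₁) i (i + 1) rfl =
        HomologySequence.δ (T m₂) i (i + 1) rfl ≫ (homologyFunctor A (i + 1)).map (ARSys.tr X h₂) :=
      (homologyFunctor A 0).homologySequenceδ_naturality (T m₂) (T m₁) φ i (i + 1) rfl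
    have hz : (homologyFunctor A i).map (ARSys.tr Z h₂) ≫
        HomologySequence.δ (T m₁) i (i + 1) rfl = 0 := by
      refine hδ.trans ((congrArg (HomologySequence.δ (T m₂) i (i + 1) rfl ≫ ·) hb₂.symm).trans ?_)
      refine (Category.assoc _ _ _).symm.trans ?_
      exact (congrArg (· ≫ b₂) (HomologySequence.δ_comp (T m₂) (hT m₂) i (i + 1) rfl)).trans zero_comp
    obtain ⟨W, π, hπ, y, hy⟩ :=
      (HomologySequence.exact₃ (T m₁) (hT m₁) i (i + 1) rfl).exact_up_to_refinements _ hz
    have hgn : (homologyFunctor A i).map (g.app (op m₁)) ≫ (homologyFunctor A i).map (ARSys.tr Z h₁) =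
        (homologyFunctor A i).map (ARSys.tr Y h₁) ≫ (homologyFunctor A i).map (g.app (op n)) := by
      rw [← Functor.map_comp, ← Functor.map_comp]
      exact congrArg _ (g.naturality (homOfLE h₁).op).symm
    have hfg : (homologyFunctor A i).map (f.app (op n)) ≫ (homologyFunctor A i).map (g.app (op n)) = 0 := by
      rw [← Functor.map_comp]
      exact (congrArg _ (comp_distTriang_mor_zero₁₂ _ (hT n))).trans (Functor.map_zero _ _ _)
    rw [← cancel_epi π, comp_zero]
    show π ≫ (homologyFunctor A i).map (ARSys.tr Z (h₁.trans h₂)) = 0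
    rw [← TriDecomp.tr_tr' Z h₁ h₂, Functor.map_comp, ← Category.assoc]
    refine (congrArg (· ≫ _) hy).trans ?_
    refine (Category.assoc _ _ _).trans ?_
    refine (congrArg (y ≫ ·) hgn).trans ?_
    have e : (homologyFunctor A i).map (ARSys.tr Y h₁) = b₁ ≫ (homologyFunctor A i).map (f.app (op n)) :=
      hb₁'.symm
    refine (congrArg (y ≫ ·) ?_).trans comp_zero
    rw [e, Category.assoc, hfg, comp_zero]
    rfl

end Groth.Agent.ProDerLib
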