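/-
Uniformly bounded inverse systems in a derived category which are essentially constant on
cohomology are essentially constant.
-/
import Mathlib
import Groth.Agent.ProDerLib.Amplitude
import Groth.Agent.DCohLib.Ghost

set_option autoImplicit false
set_option linter.style.haveILetI false

universe w v v' u u'

open CategoryTheory CategoryTheory.Limits CategoryTheory.Pretriangulated Opposite DerivedCategory
open scoped ZeroObject

noncomputable section

namespace Groth.Agent.ProDerLib

section General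

variable {D : Type u'} [Category.{v'} D]

theorem trD (X : ARSys.PS D) {a b c : ℕ} (h₁ : a ≤ b) (h₂ : b ≤ c) :
    ARSys.tr X h₂ ≫ ARSys.tr X h₁ = ARSys.tr X (h₁.trans h₂) := by
  rw [ARSys.tr, ARSys.tr, ← X.map_comp, ← op_comp, homOfLE_comp]

theorem cone_tr {X : ARSys.PS D} {L : D} (c : (Functor.const ℕᵒᵖ).obj L ⟶ X) {a b : ℕ}
    (h : a ≤ b) : (c.app (op b) : L ⟶ X.obj (op b)) ≫ ARSys.tr X h = c.app (op a) :=
  (c.naturality (homOfLE h).op).symm.trans (Category.id_comp _)

theorem isEssConstant_of_isProIso {X : ARSys.PS D} {L : D}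
    (c : (Functor.const ℕᵒᵖ).obj L ⟶ X) (h : DerCA.IsProIso c) : DerCA.IsEssConstant X L c := by
  obtain ⟨i, _hm, s, hs, _⟩ := h 0
  refine ⟨i, s, hs.trans rfl, fun j => ?_⟩
  obtain ⟨m, hm, b, hb, hb'⟩ := h j
  obtain ⟨k, hk, b', -, hb''⟩ := h (max i m)
  have hi : i ≤ k := (le_max_left i m).trans hk
  have hmk : m ≤ k := (le_max_right i m).trans hk
  refine ⟨k, hi, hm.trans hmk, ?_⟩
  have e1 : ARSys.tr X hi ≫ s = b' := by
    rw [← trD X (le_max_left i m) hk, ← hb'', Category.assoc, Category.assoc]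
    refine (congrArg (b' ≫ ·) ?_).trans (Category.comp_id b')
    exact ((Category.assoc _ _ _).symm.trans (congrArg (· ≫ s) (cone_tr c (le_max_left i m)))).trans hs
  have e2 : ARSys.tr X hmk ≫ b = b' := by
    rw [← trD X (le_max_right i m) hk, ← hb'', Category.assoc, Category.assoc]
    refine (congrArg (b' ≫ ·) ?_).trans (Category.comp_id b')
    exact ((Category.assoc _ _ _).symm.trans (congrArg (· ≫ b) (cone_tr c (le_max_right i m)))).trans hb
  rw [← trD X hm hmk, ← hb', ← Category.assoc, e2, ← e1]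
  exact Category.assoc _ _ _

theorem isProIso_of_isEssConstant {X : ARSys.PS D} {L : D}
    (c : (Functor.const ℕᵒᵖ).obj L ⟶ X) (h : DerCA.IsEssConstant X L c) : DerCA.IsProIso c := by
  obtain ⟨i, s, hs, hfac⟩ := h
  intro j
  obtain ⟨k, hi, hj, e⟩ := hfac j
  refine ⟨k, hj, ARSys.tr X hi ≫ s, ?_, ?_⟩
  · refine ((Category.assoc _ _ _).symm.trans (congrArg (· ≫ s) (cone_tr c hi))).trans ?_
    exact hs.trans rfl
  · rw [Category.assoc]; exact e.symm

theorem isProIso_of_square {X X' Y Y' : ARSys.PS D} (f : X ⟶ Y) (f' : X' ⟶ Y')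
    (ξ : X' ⟶ X) (ζ : Y' ⟶ Y) [∀ n, IsIso (ξ.app n)] [∀ n, IsIso (ζ.app n)]
    (h : ξ ≫ f = f' ≫ ζ) (hf : DerCA.IsProIso f') : DerCA.IsProIso f := by
  intro n
  obtain ⟨m, hm, b, hb, hb'⟩ := hf n
  have hc : ∀ k, ξ.app k ≫ f.app k = f'.app k ≫ ζ.app k := fun k => congrArg (fun z => z.app k) h
  refine ⟨m, hm, inv (ζ.app (op m)) ≫ b ≫ ξ.app (op n), ?_, ?_⟩
  · rw [← cancel_epi (ξ.app (op m)), ← Category.assoc, hc, Category.assoc, IsIso.hom_inv_id_assoc,
      ← Category.assoc, hb]
    exact ξ.naturality (homOfLE hm).op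
  · rw [← cancel_epi (ζ.app (op m))]
    simp only [Category.assoc, IsIso.hom_inv_id_assoc]
    rw [hc, ← Category.assoc, hb']
    exact ζ.naturality (homOfLE hm).op

theorem isProIso_of_isZero [HasZeroMorphisms D] {X Y : ARSys.PS D} (f : X ⟶ Y)
    (hX : ∀ n, IsZero (X.obj n)) (hY : ∀ n, IsZero (Y.obj n)) : DerCA.IsProIso f := fun n =>
  ⟨n, le_rfl, 0, (hX (op n)).eq_of_src _ _, (hY (op n)).eq_of_src _ _⟩

end General

variable {A : Type u} [Category.{v} A] [Abelian A] [HasDerivedCategory.{w} A]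

theorem isLE_of_retract {X L : DerivedCategory A} (c : L ⟶ X) (s : X ⟶ L) (hcs : c ≫ s = 𝟙 L)
    (b : ℤ) [X.IsLE b] : L.IsLE b := by
  refine (isLE_iff L b).2 fun i hi => ?_
  rw [IsZero.iff_id_eq_zero, ← CategoryTheory.Functor.map_id, ← hcs, Functor.map_comp,
    (isZero_of_isLE X b i hi).eq_of_tgt ((homologyFunctor A i).map c) 0, zero_comp]

/-- Uniformly bounded inverse systems which are essentially constant on cohomology are essentially
constant. -/
theorem exists_value : ∀ (l : ℕ) (a : ℤ) (X : ARSys.PS (DerivedCategory A)),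
    (∀ (n : ℕ) (i : ℤ), i < a ∨ a + l ≤ i → IsZero ((homologyFunctor A i).obj (X.obj (op n)))) →
    (∀ i : ℤ, ∃ (B : A) (c : (Functor.const ℕᵒᵖ).obj B ⟶ X ⋙ homologyFunctor A i),
      DerCA.IsEssConstant (X ⋙ homologyFunctor A i) B c) →
    ∃ (L : DerivedCategory A) (c : (Functor.const ℕᵒᵖ).obj L ⟶ X), DerCA.IsEssConstant X L c
  | 0, a, X, hb, _ => by
    have hz : ∀ n : ℕᵒᵖ, IsZero (X.obj n) := fun n => isZero_of_homology _ fun i => hb n.unop i
      ((lt_or_ge i a).imp id fun h => by simpa using h)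
    exact ⟨0, { app := fun n => 0 }, isEssConstant_of_isProIso _
      (isProIso_of_isZero _ (fun _ => isZero_zero _) hz)⟩
  | l + 1, a, X, hb, hH => by
    let t := TStructure.t (C := A)
    let b : ℤ := a + l
    let X' : ARSys.PS (DerivedCategory A) := X ⋙ t.truncLT b
    have hb' : ∀ (n : ℕ) (i : ℤ), i < a ∨ a + l ≤ i →
        IsZero ((homologyFunctor A i).obj (X'.obj (op n))) := fun n i hi => by
      rcases hi with hi | hi
      · haveI : (X.obj (op n)).IsGE a := (isGE_iff _ a).2 fun j hj => hb n j (Or.inl hj)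
        haveI := SiteCmpLib.isGE_truncLT (X.obj (op n)) a b
        exact isZero_of_isGE ((t.truncLT b).obj (X.obj (op n))) a i hi
      · exact isZero_of_isLE ((t.truncLT b).obj (X.obj (op n))) (b - 1) i (by omega)
    have hH' : ∀ i : ℤ, ∃ (B : A) (c : (Functor.const ℕᵒᵖ).obj B ⟶ X' ⋙ homologyFunctor A i),
        DerCA.IsEssConstant (X' ⋙ homologyFunctor A i) B c := fun i => by
      rcases lt_or_ge i b with hi | hi
      · obtain ⟨B, c, hc⟩ := hH i
        let ζ : X' ⋙ homologyFunctor A i ⟶ X ⋙ homologyFunctor A i :=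
          Functor.whiskerRight (Functor.whiskerLeft X (t.truncLTι b)) (homologyFunctor A i)
        haveI hζ : ∀ n, IsIso (ζ.app n) := fun n =>
          DCohLib.isIso_homology_truncLTι (X.obj n) b i hi
        haveI : IsIso ζ := NatIso.isIso_of_isIso_app ζ
        haveI : ∀ n, IsIso ((inv ζ).app n) := fun n => inferInstance
        exact ⟨B, c ≫ inv ζ, isEssConstant_of_isProIso _
          (isProIso_of_square _ c (𝟙 _) (inv ζ) (Category.id_comp _) (isProIso_of_isEssConstant c hc))⟩
      · exact ⟨0, { app := fun n => 0 }, isEssConstant_of_isProIso _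
          (isProIso_of_isZero _ (fun _ => isZero_zero _) fun n => hb' n.unop i (Or.inr hi))⟩
    obtain ⟨L', c', hc'⟩ := exists_value l a X' hb' hH'
    obtain ⟨i', s', hs', hfac⟩ := hc'
    have hc'' : DerCA.IsProIso c' :=
      isProIso_of_isEssConstant c' ⟨i', s', hs', hfac⟩
    obtain ⟨B, cB, hcB⟩ := hH b
    haveI hXle : ∀ n : ℕ, (X.obj (op n)).IsLE b := fun n => (isLE_iff _ b).2 fun j hj =>
      hb n j (Or.inr (by push_cast; omega))
    haveI hGle : ∀ n : ℕ, ((t.truncGE b).obj (X.obj (op n))).IsLE b := fun n =>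
      (isLE_iff _ b).2 fun j hj => by
        haveI := DCohLib.isIso_homology_truncGEπ (X.obj (op n)) b j hj.le
        exact (hb n j (Or.inr (by push_cast; omega))).of_iso
          (asIso ((homologyFunctor A j).map ((t.truncGEπ b).app (X.obj (op n))))).symm
    let Bs : DerivedCategory A := (singleFunctor A b).obj B
    let σ : (homologyFunctor A b).obj Bs ≅ B := (singleFunctorCompHomologyFunctorIso A b).app B
    have hw : ∀ n : ℕ, ∃ w : Bs ⟶ (t.truncGE b).obj (X.obj (op n)),
        (homologyFunctor A b).map w =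
          σ.hom ≫ (cB.app (op n) : B ⟶ _) ≫ (homologyFunctor A b).map ((t.truncGEπ b).app _) := by
      intro n
      obtain ⟨Y, ⟨ε⟩⟩ := exists_iso_singleFunctor_obj_of_isGE_of_isLE
        ((t.truncGE b).obj (X.obj (op n))) b
      let τ := (singleFunctorCompHomologyFunctorIso A b).app Y
      refine ⟨(singleFunctor A b).map ((cB.app (op n) : B ⟶ _) ≫
        (homologyFunctor A b).map ((t.truncGEπ b).app _) ≫ (homologyFunctor A b).map ε.hom ≫ τ.hom) ≫
          ε.inv, ?_⟩
      rw [Functor.map_comp, ← cancel_mono ((homologyFunctor A b).map ε.hom), Category.assoc,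
        Iso.map_inv_hom_id, Category.comp_id,
        ← cancel_mono τ.hom]
      have := (singleFunctorCompHomologyFunctorIso A b).hom.naturality
        ((cB.app (op n) : B ⟶ _) ≫
        (homologyFunctor A b).map ((t.truncGEπ b).app _) ≫ (homologyFunctor A b).map ε.hom ≫ τ.hom)
      refine this.trans ?_
      simp only [Category.assoc]
      rfl
    choose w hw using hw
    have hwn : ∀ {n k : ℕ} (h : n ≤ k), w k ≫ (t.truncGE b).map (ARSys.tr X h) = w n := by
      intro n k h
      rw [← sub_eq_zero]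
      refine CohDerLim.eq_zero_of_homology b _ ?_
      rw [Functor.map_sub, Functor.map_comp, sub_eq_zero, hw, hw, Category.assoc, Category.assoc,
        ← cone_tr cB h]
      simp only [Category.assoc]
      congr 2
      show _ = (homologyFunctor A b).map (ARSys.tr X h) ≫ _
      rw [← Functor.map_comp, ← Functor.map_comp]
      exact congrArg _ ((t.truncGEπ b).naturality (ARSys.tr X h)).symm
    let dX : ∀ n : ℕ, (t.truncGE b).obj (X.obj (op n)) ⟶ (X'.obj (op n))⟦(1 : ℤ)⟧ :=
      fun n => (t.truncGEδLT b).app (X.obj (op n))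
    have hdn : ∀ {n k : ℕ} (h : n ≤ k), (t.truncGE b).map (ARSys.tr X h) ≫ dX n =
        dX k ≫ (ARSys.tr X' h)⟦(1 : ℤ)⟧' := fun h => (t.truncGEδLT b).naturality (ARSys.tr X h)
    let δ : Bs ⟶ L'⟦(1 : ℤ)⟧ := w i' ≫ dX i' ≫ s'⟦(1 : ℤ)⟧'
    have hδ : ∀ n, δ ≫ (c'.app (op n) : L' ⟶ X'.obj (op n))⟦(1 : ℤ)⟧' = w n ≫ dX n := by
      intro n
      obtain ⟨k, hi, hn, e⟩ := hfac n
      rw [← hwn hn, Category.assoc (w k), hdn, e]
      show (w i' ≫ dX i' ≫ s'⟦(1 : ℤ)⟧') ≫ _ = _
      rw [← hwn hi]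
      simp only [Category.assoc]
      rw [← Category.assoc ((t.truncGE b).map _), hdn]
      simp only [Functor.map_comp, Category.assoc]
    obtain ⟨L, u, p, hL⟩ := distinguished_cocone_triangle₂ δ
    haveI hL' : L'.IsLE (b - 1) := by
      haveI : (X'.obj (op i')).IsLE (b - 1) :=
        inferInstanceAs (((t.truncLT b).obj (X.obj (op i'))).IsLE (b - 1))
      exact isLE_of_retract (c'.app (op i') : L' ⟶ _) s' hs' (b - 1)
    have hc : ∀ n, ∃ c : L ⟶ X.obj (op n),
        u ≫ c = (c'.app (op n) : L' ⟶ X'.obj (op n)) ≫ (t.truncLTι b).app (X.obj (op n)) ∧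
          c ≫ (t.truncGEπ b).app (X.obj (op n)) = p ≫ w n := by
      intro n
      obtain ⟨c, h1, h2⟩ := complete_distinguished_triangle_morphism₂ _ _ hL
        (t.triangleLTGE_distinguished b (X.obj (op n))) (c'.app (op n) : L' ⟶ X'.obj (op n)) (w n) (hδ n)
      exact ⟨c, h1, h2.symm⟩
    choose c₀ hc₀u hc₀π using hc
    have hι : ∀ {n k : ℕ} (h : n ≤ k), (t.truncLTι b).app (X.obj (op k)) ≫ ARSys.tr X h =
        ARSys.tr X' h ≫ (t.truncLTι b).app (X.obj (op n)) := fun h =>
      ((t.truncLTι b).naturality (ARSys.tr X h)).symm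
    have hπ : ∀ {n k : ℕ} (h : n ≤ k), ARSys.tr X h ≫ (t.truncGEπ b).app (X.obj (op n)) =
        (t.truncGEπ b).app (X.obj (op k)) ≫ (t.truncGE b).map (ARSys.tr X h) := fun h =>
      (t.truncGEπ b).naturality (ARSys.tr X h)
    -- the failure of compatibility comes from the truncation
    have hdefect : ∀ {n k : ℕ} (h : n ≤ k), ∃ e : Bs ⟶ X'.obj (op n),
        c₀ k ≫ ARSys.tr X h - c₀ n = p ≫ e ≫ (t.truncLTι b).app (X.obj (op n)) := by
      intro n k h
      have h0 : u ≫ (c₀ k ≫ ARSys.tr X h - c₀ n) = 0 := by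
        rw [Preadditive.comp_sub, ← Category.assoc, hc₀u, hc₀u, Category.assoc, hι, ← Category.assoc,
          cone_tr c' h, sub_self]
      obtain ⟨q, hq⟩ : ∃ q : Bs ⟶ X.obj (op n), c₀ k ≫ ARSys.tr X h - c₀ n = p ≫ q :=
        Triangle.yoneda_exact₂ _ hL _ h0
      have h1 : p ≫ q ≫ (t.truncGEπ b).app (X.obj (op n)) = 0 := by
        rw [← Category.assoc, ← hq, Preadditive.sub_comp, Category.assoc, hπ, ← Category.assoc,
          hc₀π, hc₀π, Category.assoc, hwn, sub_self]
      obtain ⟨z, hz⟩ : ∃ z : L'⟦(1 : ℤ)⟧ ⟶ (t.truncGE b).obj (X.obj (op n)),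
          q ≫ (t.truncGEπ b).app (X.obj (op n)) = δ ≫ z :=
        Triangle.yoneda_exact₃ _ hL _ h1
      haveI : (L'⟦(1 : ℤ)⟧).IsLE (b - 2) := t.isLE_shift L' (b - 1) 1 (b - 2) (by omega)
      have hz0 : z = 0 := t.zero_of_isLE_of_isGE z (b - 2) b (by omega) inferInstance inferInstance
      rw [hz0, comp_zero] at hz
      obtain ⟨e, he⟩ : ∃ e : Bs ⟶ X'.obj (op n), q = e ≫ (t.truncLTι b).app (X.obj (op n)) :=
        Triangle.coyoneda_exact₂ _ (t.triangleLTGE_distinguished b (X.obj (op n))) q hz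
      exact ⟨e, by rw [hq, he]⟩
    choose kf hkf1 hkf2 hkf3 using hfac
    let K : ℕ → ℕ := fun n => (Finset.range (n + 1)).sup kf
    have hKf : ∀ n, kf n ≤ K n := fun n => Finset.le_sup (Finset.self_mem_range_succ n)
    have hKm : ∀ n, K n ≤ K (n + 1) := fun n => Finset.sup_mono
      (Finset.range_mono (Nat.le_succ _))
    have hKn : ∀ n, n ≤ K n := fun n => (hkf2 n).trans (hKf n)
    have hKi : ∀ n, i' ≤ K n := fun n => (hkf1 n).trans (hKf n)
    have hKfac : ∀ n, ARSys.tr X' (hKn n) =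
        ARSys.tr X' (hKi n) ≫ s' ≫ (c'.app (op n) : L' ⟶ X'.obj (op n)) := by
      intro n
      rw [← trD X' (hkf2 n) (hKf n), hkf3 n, ← Category.assoc, trD]
    let c₁ : ∀ n, L ⟶ X.obj (op n) := fun n => c₀ (K n) ≫ ARSys.tr X (hKn n)
    have hstep : ∀ n, ∃ ε : Bs ⟶ L',
        c₁ (n + 1) ≫ ARSys.tr X (Nat.le_add_right n 1) - c₁ n =
          p ≫ ε ≫ (c'.app (op n) : L' ⟶ X'.obj (op n)) ≫ (t.truncLTι b).app (X.obj (op n)) := by
      intro n
      obtain ⟨e, he⟩ := hdefect (hKm n)
      refine ⟨e ≫ ARSys.tr X' (hKi n) ≫ s', ?_⟩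
      show (c₀ (K (n + 1)) ≫ ARSys.tr X (hKn (n + 1))) ≫ _ - c₀ (K n) ≫ ARSys.tr X (hKn n) = _
      rw [Category.assoc, trD, ← trD X (hKn n) (hKm n), ← Category.assoc, ← Preadditive.sub_comp, he]
      simp only [Category.assoc]
      rw [hι, hKfac]
      simp only [Category.assoc]
    choose ε hε using hstep
    let W : ℕ → (Bs ⟶ L') := fun n => Nat.rec 0 (fun j r => r + ε j) n
    have hW : ∀ n, W (n + 1) = W n + ε n := fun n => rfl
    let c₂ : ∀ n, L ⟶ X.obj (op n) := fun n =>
      c₁ n - (p ≫ W n ≫ (c'.app (op n) : L' ⟶ X'.obj (op n)) ≫ (t.truncLTι b).app (X.obj (op n)) :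
        L ⟶ X.obj (op n))
    have hc₂ : ∀ n, c₂ (n + 1) ≫ ARSys.tr X (Nat.le_add_right n 1) = c₂ n := by
      intro n
      show (c₁ (n + 1) - _) ≫ _ = _ - _
      rw [Preadditive.sub_comp, eq_add_of_sub_eq (hε n), hW]
      simp only [Category.assoc, hι]
      rw [← Category.assoc (c'.app (op (n + 1)) : L' ⟶ X'.obj (op (n + 1))),
        cone_tr c' (Nat.le_add_right n 1)]
      simp only [Preadditive.comp_add, Preadditive.add_comp]
      abel
    have hup : u ≫ p = 0 := comp_distTriang_mor_zero₁₂ _ hL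
    have hιπ : ∀ n, (t.truncLTι b).app (X.obj (op n)) ≫ (t.truncGEπ b).app (X.obj (op n)) = 0 :=
      fun n => t.truncLTι_comp_truncGEπ_app b _
    have hc₂u : ∀ n, u ≫ c₂ n =
        (c'.app (op n) : L' ⟶ X'.obj (op n)) ≫ (t.truncLTι b).app (X.obj (op n)) := by
      intro n
      show u ≫ (c₀ (K n) ≫ ARSys.tr X (hKn n) - _) = _
      rw [Preadditive.comp_sub, reassoc_of% hup, zero_comp, sub_zero, ← Category.assoc, hc₀u,
        Category.assoc, hι, ← Category.assoc, cone_tr c' (hKn n)]
    have hc₂π : ∀ n, c₂ n ≫ (t.truncGEπ b).app (X.obj (op n)) = p ≫ w n := by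
      intro n
      show (c₀ (K n) ≫ ARSys.tr X (hKn n) - _) ≫ _ = _
      rw [Preadditive.sub_comp]
      simp only [Category.assoc]
      rw [hιπ, comp_zero, comp_zero, comp_zero, sub_zero, hπ, ← Category.assoc, hc₀π, Category.assoc, hwn]
    let c : (Functor.const ℕᵒᵖ).obj L ⟶ X := NatTrans.ofOpSequence (F := (Functor.const ℕᵒᵖ).obj L)
      c₂ fun n => (Category.id_comp _).trans (hc₂ n).symm
    refine ⟨L, c, isEssConstant_of_isProIso c ?_⟩
    -- homology of `L`
    haveI hBle : Bs.IsLE b := inferInstanceAs (((singleFunctor A b).obj B).IsLE b)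
    haveI hBge : Bs.IsGE b := inferInstanceAs (((singleFunctor A b).obj B).IsGE b)
    have huIso : ∀ i, i < b → IsIso ((homologyFunctor A i).map u) := fun i hi => by
      haveI : Epi ((homologyFunctor A i).map u) :=
        (HomologySequence.epi_homologyMap_mor₁_iff _ hL i).2
          ((isZero_of_isGE Bs b i hi).eq_of_tgt _ _)
      haveI : Mono ((homologyFunctor A i).map u) :=
        (HomologySequence.mono_homologyMap_mor₁_iff _ hL (i - 1) i (by omega)).2
          ((isZero_of_isGE Bs b (i - 1) (by omega)).eq_of_src _ _)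
      exact isIso_of_mono_of_epi _
    haveI hpIso : IsIso ((homologyFunctor A b).map p) := by
      haveI : Epi ((homologyFunctor A b).map p) :=
        (HomologySequence.epi_homologyMap_mor₂_iff _ hL b (b + 1) rfl).2
          ((isZero_of_isLE L' (b - 1) (b + 1) (by omega)).eq_of_tgt _ _)
      haveI : Mono ((homologyFunctor A b).map p) :=
        (HomologySequence.mono_homologyMap_mor₂_iff _ hL b).2
          ((isZero_of_isLE L' (b - 1) b (by omega)).eq_of_src _ _)
      exact isIso_of_mono_of_epi _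
    have hL0 : ∀ (i : ℤ), i < a ∨ b < i → IsZero ((homologyFunctor A i).obj L) := by
      intro i hi
      rcases hi with hi | hi
      · haveI := huIso i (by omega)
        refine IsZero.of_iso ?_ (asIso ((homologyFunctor A i).map u)).symm
        rw [IsZero.iff_id_eq_zero, ← CategoryTheory.Functor.map_id, ← hs', Functor.map_comp,
          (hb' i' i (Or.inl hi)).eq_of_tgt ((homologyFunctor A i).map (c'.app (op i') : L' ⟶ _)) 0,
          zero_comp]
      · exact (HomologySequence.exact₂ _ hL i).isZero_of_both_zeros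
          ((isZero_of_isLE L' (b - 1) i (by omega)).eq_of_src _ _)
          ((isZero_of_isLE Bs b i hi).eq_of_tgt _ _)
    refine isProIso_of_homology _ _ c a b (by omega) (fun n i hi => hL0 i hi)
      (fun n i hi => hb n i (hi.imp id fun h => by push_cast; omega)) fun i => ?_
    rcases lt_trichotomy i b with hi | rfl | hi
    · haveI := huIso i hi
      let ξ : (Functor.const ℕᵒᵖ).obj L' ⋙ homologyFunctor A i ⟶
          (Functor.const ℕᵒᵖ).obj L ⋙ homologyFunctor A i :=
        Functor.whiskerRight ((Functor.const ℕᵒᵖ).map u) (homologyFunctor A i)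
      let ζ : X' ⋙ homologyFunctor A i ⟶ X ⋙ homologyFunctor A i :=
        Functor.whiskerRight (Functor.whiskerLeft X (t.truncLTι b)) (homologyFunctor A i)
      haveI : ∀ n, IsIso (ξ.app n) := fun n => huIso i hi
      haveI : ∀ n, IsIso (ζ.app n) := fun n => DCohLib.isIso_homology_truncLTι (X.obj n) b i hi
      refine isProIso_of_square _ (Functor.whiskerRight c' (homologyFunctor A i)) ξ ζ ?_ ?_
      · ext n
        show (homologyFunctor A i).map u ≫ (homologyFunctor A i).map (c₂ n.unop) =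
          (homologyFunctor A i).map _ ≫ (homologyFunctor A i).map _
        rw [← Functor.map_comp, ← Functor.map_comp, hc₂u]
        rfl
      · intro n
        obtain ⟨m, hm, β, h1, h2⟩ := hc'' n
        refine ⟨m, hm, (homologyFunctor A i).map β, ?_, ?_⟩
        · exact ((homologyFunctor A i).map_comp _ _).symm.trans (congrArg _ h1)
        · exact ((homologyFunctor A i).map_comp _ _).symm.trans (congrArg _ h2)
    · let ξ : (Functor.const ℕᵒᵖ).obj B ⟶ (Functor.const ℕᵒᵖ).obj L ⋙ homologyFunctor A b :=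
        { app := fun n => inv ((homologyFunctor A b).map p ≫ σ.hom)
          naturality := fun n m f => by
            show 𝟙 B ≫ _ = _ ≫ (homologyFunctor A b).map (𝟙 L)
            rw [Category.id_comp, CategoryTheory.Functor.map_id]
            exact (Category.comp_id _).symm }
      haveI : ∀ n, IsIso (ξ.app n) := fun n =>
        inferInstanceAs (IsIso (inv ((homologyFunctor A b).map p ≫ σ.hom)))
      haveI : ∀ n, IsIso ((𝟙 (X ⋙ homologyFunctor A b) : _ ⟶ _).app n) := fun n => by
        rw [NatTrans.id_app]; infer_instance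
      refine isProIso_of_square _ cB ξ (𝟙 _) ?_ (isProIso_of_isEssConstant cB hcB)
      rw [Category.comp_id]
      ext n
      show inv ((homologyFunctor A b).map p ≫ σ.hom) ≫ (homologyFunctor A b).map (c₂ n.unop) = cB.app n
      haveI := DCohLib.isIso_homology_truncGEπ (X.obj n) b b le_rfl
      rw [IsIso.inv_comp_eq, ← cancel_mono ((homologyFunctor A b).map ((t.truncGEπ b).app (X.obj n))),
        ← Functor.map_comp]
      refine (congrArg _ (hc₂π n.unop)).trans ?_
      rw [Functor.map_comp, hw]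
      simp only [Category.assoc]
    · exact isProIso_of_isZero _ (fun n => hL0 i (Or.inr hi))
        (fun n => hb n.unop i (Or.inr (by push_cast; omega)))

end Groth.Agent.ProDerLib
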